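import Mathlib.RingTheory.Smooth.Basic
import Mathlib.RingTheory.Derivation.Basic
import Mathlib.AlgebraicGeometry.Morphisms.Smooth

/-!
# Hypersurfaces are smooth where a derivation of the equation is invertible

* `formallySmooth_away`: `P` formally smooth over `R`, `D` a derivation of `P`, `D f ≡ g mod f`: then
  `(P / f)[1 / g]` is formally smooth over `R`.
* `mem_smoothLocus`: the scheme form for `P` smooth.
-/

set_option autoImplicit false
universe u

open CategoryTheory AlgebraicGeometry

namespace Groth.Agent.Vancyc.H543.SmLoc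

lemma isUnit_of_quot {B : Type u} [CommRing B] (I : Ideal B) (hI : I ^ 2 = ⊥) (a : B)
    (ha : IsUnit (Ideal.Quotient.mk I a)) : IsUnit a := by
  obtain ⟨b, hb⟩ := ha.exists_right_inv
  obtain ⟨b, rfl⟩ := Ideal.Quotient.mk_surjective b
  have h1 : a * b - 1 ∈ I := by
    rw [← Ideal.Quotient.mk_eq_mk_iff_sub_mem, map_mul, hb, map_one]
  have h2 : (a * b - 1) * (a * b - 1) = 0 := by
    have h3 : (a * b - 1) * (a * b - 1) ∈ I ^ 2 := by
      rw [pow_two]; exact Ideal.mul_mem_mul h1 h1
    rw [hI] at h3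
    exact h3
  exact IsUnit.of_mul_eq_one (b * (2 - a * b)) (by linear_combination (-1 : B) * h2)

section Alg

variable {R P : Type u} [CommRing R] [CommRing P] [Algebra R P]

/-- Correction of a lift by a derivation. -/
noncomputable def corr {B : Type u} [CommRing B] [Algebra R B] (ψ : P →ₐ[R] B) (D : Derivation R P P)
    (c : B) (hc : c * c = 0) : P →ₐ[R] B where
  toFun p := ψ p - c * ψ (D p)
  map_one' := by simp
  map_zero' := by simp
  map_add' p q := by simp only [map_add]; ring
  map_mul' p q := by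
    rw [Derivation.leibniz, smul_eq_mul, smul_eq_mul, map_add, map_mul, map_mul, map_mul]
    linear_combination (-(ψ (D p) * ψ (D q))) * hc
  commutes' r := by
    rw [Derivation.map_algebraMap, map_zero, mul_zero, sub_zero, AlgHom.commutes]

lemma corr_apply {B : Type u} [CommRing B] [Algebra R B] (ψ : P →ₐ[R] B) (D : Derivation R P P)
    (c : B) (hc : c * c = 0) (p : P) : corr ψ D c hc p = ψ p - c * ψ (D p) := rfl

theorem formallySmooth_away [Algebra.FormallySmooth R P] (f g : P) (D : Derivation R P P)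
    (hD : D f - g ∈ Ideal.span {f}) (Q : Type u) [CommRing Q] [Algebra R Q]
    [Algebra (P ⧸ Ideal.span {f}) Q] [IsScalarTower R (P ⧸ Ideal.span {f}) Q]
    [IsLocalization.Away (Ideal.Quotient.mk (Ideal.span {f}) g) Q] : Algebra.FormallySmooth R Q := by
  refine Algebra.FormallySmooth.of_comp_surjective ?_
  intro B _ _ I hI φ
  let π : P →ₐ[R] Q := (IsScalarTower.toAlgHom R (P ⧸ Ideal.span {f}) Q).comp
    (Ideal.Quotient.mkₐ R (Ideal.span {f}))
  obtain ⟨ψ, hψ⟩ := Algebra.FormallySmooth.comp_surjective R P I hI (φ.comp π)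
  have hψ' : ∀ p, Ideal.Quotient.mk I (ψ p) = φ (π p) := fun p => DFunLike.congr_fun hψ p
  have hπf : π f = 0 := by
    change algebraMap (P ⧸ Ideal.span {f}) Q (Ideal.Quotient.mk _ f) = 0
    rw [Ideal.Quotient.eq_zero_iff_mem.mpr (Ideal.mem_span_singleton_self f), map_zero]
  have hfI : ψ f ∈ I := by
    rw [← Ideal.Quotient.eq_zero_iff_mem, hψ', hπf, map_zero]
  have hff : ψ f * ψ f = 0 := by
    have h3 : ψ f * ψ f ∈ I ^ 2 := by
      rw [pow_two]; exact Ideal.mul_mem_mul hfI hfI
    rw [hI] at h3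
    exact h3
  have hπg : IsUnit (π g) := IsLocalization.Away.algebraMap_isUnit (Ideal.Quotient.mk (Ideal.span {f}) g)
  have hg : IsUnit (ψ g) := isUnit_of_quot I hI _ (by rw [hψ']; exact hπg.map φ)
  obtain ⟨u, hu⟩ := hg.exists_right_inv
  obtain ⟨c, hc⟩ := Ideal.mem_span_singleton.mp hD
  have hDf : ψ (D f) = ψ g + ψ f * ψ c := by
    rw [← map_mul, ← hc, ← map_add]; congr 1; ring
  have hcc : (ψ f * u) * (ψ f * u) = 0 := by linear_combination (u * u) * hff
  let ψ₁ : P →ₐ[R] B := corr ψ D (ψ f * u) hcc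
  have hψ₁f : ψ₁ f = 0 := by
    change ψ f - ψ f * u * ψ (D f) = 0
    rw [hDf]
    linear_combination (-(ψ f)) * hu - (u * ψ c) * hff
  let ψ₂ : P ⧸ Ideal.span {f} →ₐ[R] B := Ideal.Quotient.liftₐ (Ideal.span {f}) ψ₁ (by
    intro a ha
    obtain ⟨b, rfl⟩ := Ideal.mem_span_singleton.mp ha
    rw [map_mul, hψ₁f, zero_mul])
  have hmod : ∀ p, Ideal.Quotient.mk I (ψ₁ p) = φ (π p) := by
    intro p
    rw [← hψ', corr_apply, map_sub, Ideal.Quotient.eq_zero_iff_mem.mpr
      (Ideal.mul_mem_right _ _ (Ideal.mul_mem_right _ _ hfI)), sub_zero]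
  have hunit : IsUnit (ψ₂ (Ideal.Quotient.mk (Ideal.span {f}) g)) := by
    refine isUnit_of_quot I hI _ ?_
    change IsUnit (Ideal.Quotient.mk I (ψ₁ g))
    rw [hmod]
    exact hπg.map φ
  let ψ₃ : Q →ₐ[R] B := IsLocalization.liftAlgHom
    (M := Submonoid.powers (Ideal.Quotient.mk (Ideal.span {f}) g)) (f := ψ₂) (by
      rintro ⟨_, n, rfl⟩
      rw [map_pow]
      exact hunit.pow n)
  refine ⟨ψ₃, ?_⟩
  refine IsLocalization.algHom_ext (Submonoid.powers (Ideal.Quotient.mk (Ideal.span {f}) g)) ?_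
  apply Ideal.Quotient.algHom_ext
  apply AlgHom.ext
  intro p
  change Ideal.Quotient.mk I (ψ₃ (algebraMap (P ⧸ Ideal.span {f}) Q (Ideal.Quotient.mk _ p))) = φ (π p)
  rw [IsLocalization.liftAlgHom_apply, IsLocalization.lift_eq]
  exact hmod p

theorem smooth_away [Algebra.Smooth R P] (f g : P) (D : Derivation R P P)
    (hD : D f - g ∈ Ideal.span {f}) :
    Algebra.Smooth R (Localization.Away (Ideal.Quotient.mk (Ideal.span {f}) g)) where
  formallySmooth := formallySmooth_away f g D hD _
  finitePresentation :=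
    have : Algebra.FinitePresentation R (P ⧸ Ideal.span {f}) :=
      Algebra.FinitePresentation.quotient ⟨{f}, by simp⟩
    have : Algebra.FinitePresentation (P ⧸ Ideal.span {f})
      (Localization.Away (Ideal.Quotient.mk (Ideal.span {f}) g)) :=
      IsLocalization.Away.finitePresentation (Ideal.Quotient.mk (Ideal.span {f}) g)
    Algebra.FinitePresentation.trans R (P ⧸ Ideal.span {f}) _

end Alg

theorem mem_smoothLocus {R P : Type u} [CommRing R] [CommRing P] [Algebra R P] [Algebra.Smooth R P]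
    (f g : P) (D : Derivation R P P) (hD : D f - g ∈ Ideal.span {f})
    [LocallyOfFinitePresentation (Spec.map (CommRingCat.ofHom (algebraMap R (P ⧸ Ideal.span {f}))))]
    (x : Spec (CommRingCat.of (P ⧸ Ideal.span {f})))
    (hx : Ideal.Quotient.mk (Ideal.span {f}) g ∉ x.asIdeal) :
    x ∈ (Spec.map (CommRingCat.ofHom (algebraMap R (P ⧸ Ideal.span {f})))).smoothLocus := by
  set K := P ⧸ Ideal.span {f} with hK
  set gb : K := Ideal.Quotient.mk (Ideal.span {f}) g with hgb
  let u : Spec (CommRingCat.of (Localization.Away gb)) ⟶ Spec (CommRingCat.of K) :=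
    Spec.map (CommRingCat.ofHom (algebraMap K (Localization.Away gb)))
  have hsm : Algebra.Smooth R (Localization.Away gb) := smooth_away f g D hD
  have h1 : Smooth (u ≫ Spec.map (CommRingCat.ofHom (algebraMap R K))) := by
    rw [← Spec.map_comp, ← CommRingCat.ofHom_comp, ← IsScalarTower.algebraMap_eq]
    refine (HasRingHomProperty.Spec_iff (P := @Smooth)).mpr ?_
    change (algebraMap R (Localization.Away gb)).Smooth
    rwa [RingHom.smooth_algebraMap]
  have h2 := Scheme.Hom.smoothLocus_eq_top (u ≫ Spec.map (CommRingCat.ofHom (algebraMap R K)))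
  rw [← Scheme.Hom.preimage_smoothLocus_eq] at h2
  have h3 : x ∈ Set.range u := by
    have h4 := PrimeSpectrum.localization_away_comap_range (Localization.Away gb) gb
    have h5 : x ∈ (PrimeSpectrum.basicOpen gb : Set (PrimeSpectrum K)) := hx
    rw [← h4] at h5
    exact h5
  obtain ⟨y, rfl⟩ := h3
  have : y ∈ (⊤ : (Spec (CommRingCat.of (Localization.Away gb))).Opens) := trivial
  rw [← h2] at this
  exact this

end Groth.Agent.Vancyc.H543.SmLoc
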