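import Groth.Agent.Vancyc.H543.Fam
import Groth.Agent.Vancyc.H517.Univ
import Groth.Agent.Vancyc.H588.E1

/-!
# `FamE1`: compactified families with constant Euler characteristic of the generic fibre

* `mem_nsOpen_of_bc`: the nonsingular open is compatible with base change;
* `nsOpen_generic`: the geometric generic fibre of the family `g = t` is nonsingular;
* `famE1`: the statement `AsmDefs.FamE1`.
-/

set_option autoImplicit false

universe u

open CategoryTheory CategoryTheory.Limits AlgebraicGeometry MvPolynomial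

namespace Groth.Agent.Vancyc.H543.FamE1

open Groth.Agent.Sga5.ProjChart Groth.Agent.Sga5.ProjSmooth
open Groth.Agent.Lefpen.H713.HypProj Groth.Agent.Vancyc.H517.HypJac Groth.Agent.Vancyc.H517.Homog
open Groth.Agent.Vancyc.H517.Bdry Groth.Agent.Vancyc.H517.Family Groth.Agent.Vancyc.H517.HypBC
open Groth.Agent.Vancyc.H578.Count Groth.Agent.Vancyc.H578.MilnorAff
open Groth.Agent.Lefpen.H714.EulerEt Groth.Agent.Vancyc.H543.Fam

section BC

variable {A B : Type u} [CommRing A] [CommRing B] (φ : A →+* B) {n d : ℕ} (q : ↥(CohB1.polyGrading (n + 1) A d))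

/-- the nonsingular open is compatible with base change -/
theorem mem_nsOpen_of_bc (x : Hyp (mapForm φ q)) (hx : bc φ q x ∈ nsOpen q) : x ∈ nsOpen (mapForm φ q) := by
  obtain ⟨i, y, hy, e⟩ := TopologicalSpace.Opens.mem_iSup.mp hx
  have h1 : x ∈ bc φ q ⁻¹ᵁ (chartH q i).opensRange := ⟨y, e⟩
  rw [bc_preimage] at h1
  obtain ⟨z, rfl⟩ := h1
  apply chartH_mem_nsOpen
  have h2 : Spec.map (CommRingCat.ofHom (chQ φ q i)) z = y := by
    apply (chartH q i).isOpenEmbedding.injective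
    refine Eq.trans ?_ e.symm
    rw [← Scheme.Hom.comp_apply, ← Scheme.Hom.comp_apply, chartH_bc]
  obtain ⟨j, hj⟩ := mem_affNs.mp hy
  rw [mem_affNs]
  refine ⟨j, fun h => hj ?_⟩
  rw [← h2]
  change chQ φ q i (pd (dehom (n + 1) A i q.1) j) ∈ z.asIdeal
  rw [pd, chQ_mk, ← pderiv_map, dehom_map]
  exact h

end BC

section Gen

variable {k : Type u} [Field k] {n : ℕ} {N : ℕ} {g : MvPolynomial (Fin (n + 1)) k}
  {Ω : Type u} [Field Ω] (ψ : Polynomial k →+* Ω)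

/-- the generic fibre of the family is nonsingular -/
theorem nsOpen_generic [IsAlgClosed k] (hNk : (N : k) ≠ 0) (hN : 2 ≤ N) (hg : (g - ∑ i, X i ^ N).totalDegree < N)
    (hψ : Function.Injective ψ) : nsOpen (mapForm ψ (Q N g)) = ⊤ := by
  rw [eq_top_iff]
  intro x _
  by_contra hx
  obtain ⟨a, -, ha⟩ := exists_crit hNk hN hg (bc ψ (Q N g) x) (fun h => hx (mem_nsOpen_of_bc ψ (Q N g) x h))
  have h1 : (G N g) (bc ψ (Q N g) x) = Spec.map (CommRingCat.ofHom ψ) (toSpec (mapForm ψ (Q N g)) x) := by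
    rw [← Scheme.Hom.comp_apply, ← Scheme.Hom.comp_apply, bc_toSpec]
  have h2 : (G N g) (v N g hN hg (pt a)) = toLine (k := k) g (pt a) := by
    rw [← Scheme.Hom.comp_apply, v_G]
  rw [ha, h2] at h1
  have h3 : (Polynomial.X - Polynomial.C (eval a g) : Polynomial k) ∈
      (toLine (k := k) g (pt a)).asIdeal := by
    change eval a ((Polynomial.aeval g : Polynomial k →ₐ[k] MvPolynomial (Fin (n + 1)) k) _) = 0
    simp
  rw [h1] at h3
  have h4 : ψ (Polynomial.X - Polynomial.C (eval a g)) ∈ (toSpec (mapForm ψ (Q N g)) x).asIdeal := h3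
  have h5 : ψ (Polynomial.X - Polynomial.C (eval a g)) = 0 := by
    by_contra h
    exact (toSpec (mapForm ψ (Q N g)) x).2.ne_top (Ideal.eq_top_of_isUnit_mem _ h4 (IsUnit.mk0 _ h))
  have h6 := hψ (h5.trans (map_zero ψ).symm)
  exact Polynomial.X_sub_C_ne_zero _ h6

theorem nsOpen_bdry {n : ℕ} {g : MvPolynomial (Fin (n + 2)) k} (hNk : (N : k) ≠ 0)
    (hg : (g - ∑ i, X i ^ N).totalDegree < N) : nsOpen (mapForm ψ (kform (Q N g))) = ⊤ :=
  NonsingForm.nsOpen_eq_top (NonsingForm.map ψ (nonsing_kform N g hNk hg))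

theorem isEmpty_bdry {g : MvPolynomial (Fin (0 + 1)) k} (hNk : (N : k) ≠ 0)
    (hg : (g - ∑ i, X i ^ N).totalDegree < N) : IsEmpty (Hyp (kform (Q N g))) := by
  refine ⟨fun x => ?_⟩
  obtain ⟨i, y, -⟩ := exists_mem_chartH (kform (Q N g)) x
  refine y.2.ne_top ((Ideal.eq_top_iff_one _).mpr ?_)
  have h1 : (kform (Q N g)).1 = X i ^ N := by
    rw [kform_hform, top _ (ne_zero hNk) hg, Finset.sum_eq_single i]
    · intro j _ hj
      exact (hj (Fin.ext (by omega))).elim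
    · intro h3
      exact (h3 (Finset.mem_univ _)).elim
  have h2 : Ideal.Quotient.mk (Ideal.span {dehom 0 (Polynomial k) i (kform (Q N g)).1})
      (dehom 0 (Polynomial k) i (kform (Q N g)).1) = 0 :=
    Ideal.Quotient.eq_zero_iff_mem.mpr (Ideal.mem_span_singleton_self _)
  conv at h2 =>
    lhs
    arg 2
    rw [h1]
  rw [map_pow, dehom_X_self, one_pow, map_one] at h2
  rw [h2]
  exact zero_mem _

end Gen

section Ec

theorem ec_iso {X Y : Scheme.{u}} (i : X ≅ Y) (ℓ : ℕ) : ec ℓ X = ec ℓ Y := e_congr fun q => by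
  obtain ⟨e1⟩ := Etrest.HConstIso.nonempty_HConst i (ZMod ℓ) q
  first
    | exact ⟨e1.toEquiv⟩
    | exact ⟨e1.symm.toEquiv⟩

theorem ec_hyp {n d ℓ : ℕ} [Fact ℓ.Prime] {Ω Ω' : Type u} [Field Ω] [IsSepClosed Ω] [Field Ω'] [IsSepClosed Ω']
    (hℓ : (ℓ : Ω) ≠ 0) (hℓ' : (ℓ : Ω') ≠ 0)
    (q : ↥(CohB1.polyGrading (n + 1) Ω d)) (hq : nsOpen q = ⊤)
    (q' : ↥(CohB1.polyGrading (n + 1) Ω' d)) (hq' : nsOpen q' = ⊤) : ec ℓ (Hyp q) = ec ℓ (Hyp q') := by
  obtain ⟨Y, T, f, _, _, _, hu, a, b, p, p', hp, hp'⟩ := H517.Univ.exists_family hℓ hℓ' q hq q' hq'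
  exact H588.E1.ec_eq_of_isPullback f ℓ hu hp hp'

variable {k : Type u} [Field k] {n : ℕ} {N ℓ : ℕ} {g g' : MvPolynomial (Fin (n + 1)) k}
  {Ω Ω' : Type u} [Field Ω] [Field Ω']

theorem cast_ne_zero (hℓk : (ℓ : k) ≠ 0) (ψ : Polynomial k →+* Ω) : (ℓ : Ω) ≠ 0 := by
  intro h
  apply hℓk
  apply (ψ.comp Polynomial.C).injective
  rw [map_natCast, map_zero, h]

/-- the Euler characteristic of the geometric generic fibre -/
theorem ec_total [IsAlgClosed k] [IsSepClosed Ω] [IsSepClosed Ω'] [Fact ℓ.Prime] (hNk : (N : k) ≠ 0) (hN : 2 ≤ N)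
    (hℓk : (ℓ : k) ≠ 0) (hg : (g - ∑ i, X i ^ N).totalDegree < N) (hg' : (g' - ∑ i, X i ^ N).totalDegree < N)
    (ψ : Polynomial k →+* Ω) (hψ : Function.Injective ψ) (ψ' : Polynomial k →+* Ω') (hψ' : Function.Injective ψ') :
    ec ℓ (pullback (G N g) (Spec.map (CommRingCat.ofHom ψ))) =
      ec ℓ (pullback (G N g') (Spec.map (CommRingCat.ofHom ψ'))) := by
  rw [← ec_iso (isPullback_bc ψ (Q N g)).isoPullback, ← ec_iso (isPullback_bc ψ' (Q N g')).isoPullback]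
  exact ec_hyp (cast_ne_zero hℓk ψ) (cast_ne_zero hℓk ψ') _ (nsOpen_generic ψ hNk hN hg hψ) _
    (nsOpen_generic ψ' hNk hN hg' hψ')

/-- the Euler characteristic of the boundary of the geometric generic fibre -/
theorem ec_bdry [IsSepClosed Ω] [IsSepClosed Ω'] [Fact ℓ.Prime] (hNk : (N : k) ≠ 0)
    (hℓk : (ℓ : k) ≠ 0) (hg : (g - ∑ i, X i ^ N).totalDegree < N) (hg' : (g' - ∑ i, X i ^ N).totalDegree < N)
    (ψ : Polynomial k →+* Ω) (ψ' : Polynomial k →+* Ω') :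
    ec ℓ (pullback (bdry (Q N g) ≫ G N g) (Spec.map (CommRingCat.ofHom ψ))) =
      ec ℓ (pullback (bdry (Q N g') ≫ G N g') (Spec.map (CommRingCat.ofHom ψ'))) := by
  rw [bdry_G, bdry_G, ← ec_iso (isPullback_bc ψ (kform (Q N g))).isoPullback,
    ← ec_iso (isPullback_bc ψ' (kform (Q N g'))).isoPullback]
  cases n with
  | zero =>
    have h1 := isEmpty_bdry hNk hg
    have h2 := isEmpty_bdry hNk hg'
    have h3 : IsEmpty (Hyp (mapForm ψ (kform (Q N g)))) := Function.isEmpty (bc ψ (kform (Q N g)))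
    have h4 : IsEmpty (Hyp (mapForm ψ' (kform (Q N g')))) := Function.isEmpty (bc ψ' (kform (Q N g')))
    exact ec_iso (isInitialOfIsEmpty.uniqueUpToIso isInitialOfIsEmpty) ℓ
  | succ n =>
    exact ec_hyp (cast_ne_zero hℓk ψ) (cast_ne_zero hℓk ψ') _ (nsOpen_bdry ψ hNk hg) _ (nsOpen_bdry ψ' hNk hg')

end Ec

/-- **FamE1** -/
theorem famE1 {k : Type u} [Field k] [IsAlgClosed k] {n N ℓ : ℕ} (hNk : (N : k) ≠ 0) (hN : 2 ≤ N)
    (hℓ : ℓ.Prime) (hℓk : (ℓ : k) ≠ 0) : H588.AsmDefs.FamE1 k ℓ n N := by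
  have : Fact ℓ.Prime := ⟨hℓ⟩
  let g₀ : MvPolynomial (Fin (n + 1)) k := ∑ i, X i ^ N
  have hg₀ : (g₀ - ∑ i, X i ^ N).totalDegree < N := by
    rw [sub_self, totalDegree_zero]
    omega
  let ψ₀ : Polynomial k →+* AlgebraicClosure (FractionRing (Polynomial k)) :=
    (algebraMap (FractionRing (Polynomial k)) (AlgebraicClosure (FractionRing (Polynomial k)))).comp
      (algebraMap (Polynomial k) (FractionRing (Polynomial k)))
  have hψ₀ : Function.Injective ψ₀ :=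
    (algebraMap (FractionRing (Polynomial k)) (AlgebraicClosure (FractionRing (Polynomial k)))).injective.comp
      (IsFractionRing.injective (Polynomial k) (FractionRing (Polynomial k)))
  refine ⟨ec ℓ (pullback (G N g₀) (Spec.map (CommRingCat.ofHom ψ₀))) -
    ec ℓ (pullback (bdry (Q N g₀) ≫ G N g₀) (Spec.map (CommRingCat.ofHom ψ₀))), fun g hg =>
    ⟨famData hNk hN hg, fun Ω _ _ ψ hψ => ?_⟩⟩
  have h1 := ec_total (ℓ := ℓ) hNk hN hℓk hg hg₀ ψ hψ ψ₀ hψ₀
  have h2 := ec_bdry (ℓ := ℓ) hNk hℓk hg hg₀ ψ ψ₀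
  exact congrArg₂ (fun a b : ℝ => a - b) h1 h2

end Groth.Agent.Vancyc.H543.FamE1
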