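import Groth.Agent.Sga5.ProjHyper
import Groth.Agent.Fga.QD1Alg
import Mathlib.Algebra.MvPolynomial.Derivation

/-!
# Homogenization of `∑ X_i ^ d + (lower terms)`
-/

set_option autoImplicit false
universe u

open MvPolynomial

namespace Groth.Agent.Vancyc.H543.Homog

open Groth.Agent.Sga5.ProjChart Groth.Agent.Sga5.ProjHyper

variable (A : Type u) [CommRing A] (n d : ℕ)

/-- The lower part of the homogenization, divided by the last variable. -/
noncomputable def low (g : MvPolynomial (Fin (n + 1)) A) : MvPolynomial (Fin (n + 2)) A :=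
  ∑ j ∈ Finset.range d, X (Fin.last (n + 1)) ^ (d - 1 - j) *
    rename Fin.castSucc (homogeneousComponent j g)

/-- The homogenization. -/
noncomputable def hom (g : MvPolynomial (Fin (n + 1)) A) : MvPolynomial (Fin (n + 2)) A :=
  ∑ i : Fin (n + 1), X (Fin.castSucc i) ^ d + X (Fin.last (n + 1)) * low A n d g

variable {A n d}

theorem isHomogeneous_low (g : MvPolynomial (Fin (n + 1)) A) : (low A n d g).IsHomogeneous (d - 1) := by
  refine IsHomogeneous.sum _ _ _ fun j hj => ?_
  have hj' : j < d := Finset.mem_range.1 hj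
  have h1 : (X (Fin.last (n + 1)) ^ (d - 1 - j) : MvPolynomial (Fin (n + 2)) A).IsHomogeneous (d - 1 - j) := by
    have := (isHomogeneous_X A (Fin.last (n + 1))).pow (d - 1 - j)
    rwa [one_mul] at this
  have h2 : (rename Fin.castSucc (homogeneousComponent j g) : MvPolynomial (Fin (n + 2)) A).IsHomogeneous j :=
    (homogeneousComponent_isHomogeneous j g).rename_isHomogeneous
  have h3 := h1.mul h2
  have h4 : d - 1 - j + j = d - 1 := by omega
  rwa [h4] at h3

theorem isHomogeneous_hom (hd : 1 ≤ d) (g : MvPolynomial (Fin (n + 1)) A) : (hom A n d g).IsHomogeneous d := by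
  refine IsHomogeneous.add (IsHomogeneous.sum _ _ _ fun i _ => ?_) ?_
  · have := (isHomogeneous_X A (Fin.castSucc i)).pow d
    rwa [one_mul] at this
  · have := (isHomogeneous_X A (Fin.last (n + 1))).mul (isHomogeneous_low (d := d) g)
    have h4 : 1 + (d - 1) = d := by omega
    rwa [h4] at this

lemma dehom_last_rename (p : MvPolynomial (Fin (n + 1)) A) :
    dehom (n + 1) A (Fin.last (n + 1)) (rename Fin.castSucc p) = p := by
  have h : (dehom (n + 1) A (Fin.last (n + 1))).comp
      (rename (Fin.castSucc : Fin (n + 1) → Fin (n + 2)) : MvPolynomial (Fin (n + 1)) A →ₐ[A] _).toRingHom =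
        RingHom.id _ := by
    apply MvPolynomial.ringHom_ext
    · intro r; simp
    · intro j
      change dehom (n + 1) A (Fin.last (n + 1)) (rename Fin.castSucc (X j)) = X j
      rw [rename_X, ← Fin.succAbove_last, dehom_X]
  exact DFunLike.congr_fun h p

theorem dehom_last_low (g : MvPolynomial (Fin (n + 1)) A) (hg : g.totalDegree < d) :
    dehom (n + 1) A (Fin.last (n + 1)) (low A n d g) = g := by
  rw [low, map_sum]
  have h1 : ∀ j ∈ Finset.range d, dehom (n + 1) A (Fin.last (n + 1)) (X (Fin.last (n + 1)) ^ (d - 1 - j) *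
    rename Fin.castSucc (homogeneousComponent j g)) = homogeneousComponent j g := by
    intro j _
    rw [map_mul, map_pow, dehom_X_self, one_pow, one_mul, dehom_last_rename]
  rw [Finset.sum_congr rfl h1]
  conv_rhs => rw [← sum_homogeneousComponent g]
  symm
  refine Finset.sum_subset (Finset.range_mono (by omega)) ?_
  intro j _ hj
  rw [Finset.mem_range, not_lt] at hj
  exact homogeneousComponent_eq_zero _ _ (by omega)

theorem dehom_last_hom (h : MvPolynomial (Fin (n + 1)) A)
    (hh : (h - ∑ i, X i ^ d).totalDegree < d) :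
    dehom (n + 1) A (Fin.last (n + 1)) (hom A n d (h - ∑ i, X i ^ d)) = h := by
  rw [hom, map_add, map_mul, dehom_X_self, one_mul, dehom_last_low _ hh, map_sum]
  have h1 : ∀ i ∈ Finset.univ, dehom (n + 1) A (Fin.last (n + 1)) (X (Fin.castSucc i) ^ d) =
      (X i ^ d : MvPolynomial (Fin (n + 1)) A) := by
    intro i _
    rw [map_pow, ← Fin.succAbove_last, dehom_X]
  rw [Finset.sum_congr rfl h1]
  ring

/-- The Fermat polynomial of a chart. -/
noncomputable def fer (A : Type u) [CommRing A] (n d : ℕ) : MvPolynomial (Fin n) A := 1 + ∑ k : Fin n, X k ^ d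

theorem dehom_castSucc_hom (j : Fin (n + 1)) (g : MvPolynomial (Fin (n + 1)) A) :
    dehom (n + 1) A (Fin.castSucc j) (hom A n d g) =
      rename Fin.castSucc (fer A n d) +
        X (Fin.last n) * dehom (n + 1) A (Fin.castSucc j) (low A n d g) := by
  rw [hom, map_add, map_mul]
  congr 1
  · rw [map_sum, Fin.sum_univ_succAbove _ j, fer, map_add, map_one, map_sum]
    congr 1
    · rw [map_pow, dehom_X_self, one_pow]
    · refine Finset.sum_congr rfl fun k _ => ?_
      rw [map_pow, map_pow, rename_X, ← Fin.castSucc_succAbove_castSucc, dehom_X]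
  · congr 1
    have h1 : (Fin.castSucc j).succAbove (Fin.last n) = Fin.last (n + 1) :=
      Fin.succAbove_ne_last_last (Fin.castSucc_lt_last j).ne
    rw [← h1, dehom_X]

theorem killLast_dehom (j : Fin (n + 1)) (g : MvPolynomial (Fin (n + 1)) A) :
    killLast n A (dehom (n + 1) A (Fin.castSucc j) (hom A n d g)) = fer A n d := by
  rw [dehom_castSucc_hom, map_add, map_mul, killLast_last, zero_mul, add_zero, killLast_rename]

section Der

variable {u : A} (hu : u * (d : A) = 1) (hd : 1 ≤ d)

/-- The Euler derivation, divided by `d`. -/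
noncomputable def eul (u : A) (n : ℕ) : Derivation A (MvPolynomial (Fin n) A) (MvPolynomial (Fin n) A) :=
  mkDerivation A fun k => C u * X k

include hu hd in
theorem eul_fer : eul u n (fer A n d) = fer A n d - 1 := by
  rw [fer, map_add, Derivation.map_one_eq_zero, map_sum, zero_add, add_sub_cancel_left]
  refine Finset.sum_congr rfl fun k _ => ?_
  rw [Derivation.leibniz_pow, eul, mkDerivation_X]
  have h1 : (X k : MvPolynomial (Fin n) A) ^ d = X k ^ (d - 1) * X k := (pow_sub_one_mul (by omega) _).symm
  have h2 : (C u : MvPolynomial (Fin n) A) * (d : MvPolynomial (Fin n) A) = 1 := by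
    rw [← map_natCast (C : A →+* MvPolynomial (Fin n) A), ← map_mul, hu, map_one]
  rw [smul_eq_mul, nsmul_eq_mul, h1]
  linear_combination (X k ^ (d - 1) * X k) * h2

/-- The partial Euler derivation, divided by `d`. -/
noncomputable def eul' (u : A) (n : ℕ) :
    Derivation A (MvPolynomial (Fin (n + 1)) A) (MvPolynomial (Fin (n + 1)) A) :=
  mkDerivation A (Fin.lastCases 0 fun k => C u * X (Fin.castSucc k))

theorem eul'_last (u : A) : eul' u n (X (Fin.last n)) = 0 := by
  rw [eul', mkDerivation_X, Fin.lastCases_last]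

theorem eul'_rename (u : A) (p : MvPolynomial (Fin n) A) :
    eul' u n (rename Fin.castSucc p) = rename Fin.castSucc (eul u n p) := by
  induction p using MvPolynomial.induction_on with
  | C a => simp
  | add p q hp hq => simp only [map_add, hp, hq]
  | mul_X p k hp =>
    rw [map_mul, Derivation.leibniz, Derivation.leibniz, hp, rename_X, map_add, smul_eq_mul, smul_eq_mul,
      smul_eq_mul, smul_eq_mul, map_mul, map_mul, rename_X, eul', mkDerivation_X, Fin.lastCases_castSucc, eul,
      mkDerivation_X, map_mul, rename_C, rename_X]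

include hu hd in
/-- At infinity the equation is smooth. -/
theorem exists_der (j : Fin (n + 1)) (g : MvPolynomial (Fin (n + 1)) A) :
    ∃ (D : Derivation A (MvPolynomial (Fin (n + 1)) A) (MvPolynomial (Fin (n + 1)) A))
      (b : MvPolynomial (Fin (n + 1)) A),
      D (dehom (n + 1) A (Fin.castSucc j) (hom A n d g)) - (1 + X (Fin.last n) * b) ∈
        Ideal.span {dehom (n + 1) A (Fin.castSucc j) (hom A n d g)} := by
  set L := dehom (n + 1) A (Fin.castSucc j) (low A n d g) with hL
  refine ⟨-eul' u n, L - eul' u n L, ?_⟩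
  rw [dehom_castSucc_hom, ← hL]
  have h1 : (-eul' u n) (rename Fin.castSucc (fer A n d) + X (Fin.last n) * L) =
      -(rename Fin.castSucc (fer A n d) - 1 + X (Fin.last n) * eul' u n L) := by
    change -(eul' u n (rename Fin.castSucc (fer A n d) + X (Fin.last n) * L)) = _
    rw [map_add, Derivation.leibniz, eul'_last, eul'_rename, eul_fer hu hd, map_sub, map_one, smul_eq_mul,
      smul_zero, add_zero]
  rw [h1, Ideal.mem_span_singleton]
  exact ⟨-1, by ring⟩

end Der

end Groth.Agent.Vancyc.H543.Homog
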