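import Groth.Agent.Vancyc.H543.Hyp
import Groth.Agent.Vancyc.H543.Homog
import Groth.Agent.Vancyc.H543.SmLoc
import Groth.Agent.Lefpen.H705.JacHyp

/-!
# Projective closure of `∑ X_i ^ d + (lower terms) = 0`, smooth at infinity

`exists_closure` : over a ring in which `d` is invertible.
-/

set_option autoImplicit false
universe u

open CategoryTheory CategoryTheory.Limits AlgebraicGeometry MvPolynomial CohB1

namespace Groth.Agent.Vancyc.H543.Closure

open Groth.Agent.Fga.QD1Sch Groth.Agent.Vancyc.H543.Hyp Groth.Agent.Vancyc.H543.Homog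
open Groth.Agent.Sga5.ProjChart Groth.Agent.Sga5.ProjSmooth Groth.Agent.Sga5.ProjHyper

section Gen

theorem of_jointly (P : MorphismProperty Scheme.{u}) [IsZariskiLocalAtSource P] {X Y : Scheme.{u}}
    (f : X ⟶ Y) {ι : Type u} (U : ι → Scheme.{u}) (c : ∀ i, U i ⟶ X) [hc : ∀ i, IsOpenImmersion (c i)]
    (hc' : ∀ x : X, ∃ i, x ∈ Set.range (c i)) (h : ∀ i, P (c i ≫ f)) : P f := by
  let 𝒰 : X.OpenCover := Scheme.Cover.mkOfCovers ι U c (fun x => by
    obtain ⟨i, y, hy⟩ := hc' x
    exact ⟨i, y, hy⟩) (fun i => hc i)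
  rw [IsZariskiLocalAtSource.iff_of_openCover (P := P) 𝒰]
  exact h

theorem range_of_isPullback {P X Y Z : Scheme.{u}} {fst : P ⟶ X} {snd : P ⟶ Y} {f : X ⟶ Z} {g : Y ⟶ Z}
    (h : IsPullback fst snd f g) : Set.range fst = f ⁻¹' Set.range g := by
  refine Eq.trans ?_ (Scheme.Pullback.range_fst f g)
  ext x
  constructor
  · rintro ⟨y, rfl⟩
    exact ⟨h.isoPullback.hom y, by rw [← Scheme.Hom.comp_apply, h.isoPullback_hom_fst]⟩
  · rintro ⟨y, rfl⟩
    exact ⟨h.isoPullback.inv y, by rw [← Scheme.Hom.comp_apply, h.isoPullback_inv_fst]⟩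

end Gen

theorem exists_closure (A : Type u) [CommRing A] (n d : ℕ) (hd : IsUnit (d : A)) (hd1 : 1 ≤ d)
    (h : MvPolynomial (Fin (n + 1)) A)
    (hh : (h - ∑ i, MvPolynomial.X i ^ d).totalDegree < d) :
    ∃ (Y Z : Scheme.{u}) (G : Y ⟶ Spec (CommRingCat.of A)) (i : Z ⟶ Y)
      (j : Spec (CommRingCat.of (MvPolynomial (Fin (n + 1)) A ⧸ Ideal.span {h})) ⟶ Y) (V : Y.Opens),
      IsProper G ∧ LocallyOfFinitePresentation G ∧ IsClosedImmersion i ∧ IsOpenImmersion j ∧
      Set.range j.base = (Set.range i.base)ᶜ ∧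
      j ≫ G = Spec.map (CommRingCat.ofHom (algebraMap A _)) ∧
      Set.range i.base ⊆ (V : Set Y) ∧ Smooth (V.ι ≫ G) ∧ Smooth (i ≫ G) := by
  obtain ⟨u, hu⟩ := hd.exists_left_inv
  set H := hom A n d (h - ∑ i, X i ^ d) with hH
  obtain ⟨I, hI⟩ := exists_hyp H (isHomogeneous_hom hd1 (h - ∑ i, X i ^ d))
  set G : I.subscheme ⟶ Spec (CommRingCat.of A) := I.subschemeι ≫ ProjSpace.toSpec (n + 1) A with hG
  have hprP : IsProper (ProjSpace.toSpec (n + 1) A) := Groth.Agent.Ega3B.ProjProper.isProper_toSpec _ _
  have hprG : IsProper G := inferInstance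
  have hsmC : ∀ m : ℕ, Algebra.Smooth A (MvPolynomial (Fin m) A) := fun m => ⟨inferInstance, inferInstance⟩
  -- the charts
  choose c hc using fun i : Fin (n + 2) => exists_isPullback I (chart (n + 1) A i)
    (Ideal.span {dehom (n + 1) A i H}) (hI i)
  have hco : ∀ i, IsOpenImmersion (c i) := fun i =>
    MorphismProperty.of_isPullback (P := @IsOpenImmersion) (hc i).flip inferInstance
  have hcr : ∀ i, Set.range (c i) = I.subschemeι ⁻¹' Set.range (chart (n + 1) A i) := fun i =>
    range_of_isPullback (hc i)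
  have hcG : ∀ i, c i ≫ G = Spec.map (CommRingCat.ofHom
      (algebraMap A (MvPolynomial (Fin (n + 1)) A ⧸ Ideal.span {dehom (n + 1) A i H}))) := by
    intro i
    rw [hG, ← Category.assoc, (hc i).w, Category.assoc, chart_toSpec, ← Spec.map_comp]
    rfl
  have hfp : ∀ i, LocallyOfFinitePresentation (Spec.map (CommRingCat.ofHom
      (algebraMap A (MvPolynomial (Fin (n + 1)) A ⧸ Ideal.span {dehom (n + 1) A i H})))) := by
    intro i
    refine (HasRingHomProperty.Spec_iff (P := @LocallyOfFinitePresentation)).mpr ?_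
    change (algebraMap A (MvPolynomial (Fin (n + 1)) A ⧸
      Ideal.span {dehom (n + 1) A i H})).FinitePresentation
    rw [RingHom.finitePresentation_algebraMap]
    exact Algebra.FinitePresentation.quotient ⟨{dehom (n + 1) A i H}, by simp⟩
  have hlfp : LocallyOfFinitePresentation G := by
    refine of_jointly @LocallyOfFinitePresentation G (ι := ULift.{u} (Fin (n + 2))) _
      (fun i => c i.down) (hc := fun i => hco i.down) ?_ ?_
    · intro x
      obtain ⟨i, hi⟩ := exists_mem_chart (n + 1) A (I.subschemeι x)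
      refine ⟨⟨i⟩, ?_⟩
      rw [hcr]
      exact hi
    · intro i
      rw [hcG]
      exact hfp _
  -- the affine part
  obtain ⟨jj, hjj⟩ := exists_isPullback I (chart (n + 1) A (Fin.last (n + 1)))
    (Ideal.span {h}) (by rw [hI, hH, dehom_last_hom h hh])
  have hjo : IsOpenImmersion jj :=
    MorphismProperty.of_isPullback (P := @IsOpenImmersion) hjj.flip inferInstance
  have hjr : Set.range jj = I.subschemeι ⁻¹' Set.range (chart (n + 1) A (Fin.last (n + 1))) :=
    range_of_isPullback hjj
  have hjG : jj ≫ G = Spec.map (CommRingCat.ofHom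
      (algebraMap A (MvPolynomial (Fin (n + 1)) A ⧸ Ideal.span {h}))) := by
    rw [hG, ← Category.assoc, hjj.w, Category.assoc, chart_toSpec, ← Spec.map_comp]
    rfl
  -- the part at infinity
  set ii := pullback.fst I.subschemeι (hyper n A) with hii
  have hicl : IsClosedImmersion ii := inferInstance
  have hir : Set.range ii = I.subschemeι ⁻¹' Set.range (hyper n A) :=
    Scheme.Pullback.range_fst _ _
  refine ⟨I.subscheme, pullback I.subschemeι (hyper n A), G, ii, jj, G.smoothLocus, hprG, hlfp, hicl, hjo,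
    ?_, hjG, ?_, ?_, ?_⟩
  · change Set.range jj = (Set.range ii)ᶜ
    rw [hjr, hir, range_hyper, Set.preimage_compl, compl_compl]
  · change Set.range ii ⊆ _
    rintro y hy
    rw [hir] at hy
    obtain ⟨p, hp⟩ := hy
    obtain ⟨j, q, hq⟩ := exists_mem_chart n A p
    have h1 : chart (n + 1) A (Fin.castSucc j) (Spec.map (CommRingCat.ofHom (killLast n A)) q) =
        I.subschemeι y := by
      rw [← hp, ← hq, ← Scheme.Hom.comp_apply, ← Scheme.Hom.comp_apply, chart_hyper]
    have h2 : y ∈ Set.range (c (Fin.castSucc j)) := by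
      rw [hcr]
      exact ⟨_, h1⟩
    obtain ⟨x, rfl⟩ := h2
    have h3 : Spec.map (CommRingCat.ofHom (Ideal.Quotient.mk
        (Ideal.span {dehom (n + 1) A (Fin.castSucc j) H}))) x =
        Spec.map (CommRingCat.ofHom (killLast n A)) q := by
      apply (chart (n + 1) A (Fin.castSucc j)).isOpenEmbedding.injective
      rw [h1, ← Scheme.Hom.comp_apply, ← Scheme.Hom.comp_apply, (hc (Fin.castSucc j)).w]
    have h4 : Ideal.Quotient.mk (Ideal.span {dehom (n + 1) A (Fin.castSucc j) H}) (X (Fin.last n)) ∈
        x.asIdeal := by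
      have h5 : (X (Fin.last n) : MvPolynomial (Fin (n + 1)) A) ∈
          (Spec.map (CommRingCat.ofHom (killLast n A)) q).asIdeal := by
        change killLast n A (X (Fin.last n)) ∈ q.asIdeal
        rw [killLast_last]
        exact zero_mem _
      rw [← h3] at h5
      exact h5
    obtain ⟨D, b, hD⟩ := exists_der hu hd1 j (h - ∑ i, X i ^ d)
    have := hfp (Fin.castSucc j)
    have h6 := SmLoc.mem_smoothLocus _ _ D hD x (by
      intro h7
      rw [map_add, map_one, map_mul] at h7
      have h8 : (1 : MvPolynomial (Fin (n + 1)) A ⧸ Ideal.span {dehom (n + 1) A (Fin.castSucc j) H}) ∈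
          x.asIdeal := by
        have h9 := Ideal.sub_mem _ h7 (Ideal.mul_mem_right (Ideal.Quotient.mk
          (Ideal.span {dehom (n + 1) A (Fin.castSucc j) H}) b) _ h4)
        rwa [add_sub_cancel_right] at h9
      exact x.2.ne_top ((Ideal.eq_top_iff_one _).2 h8))
    have h10 : x ∈ (c (Fin.castSucc j) ≫ G).smoothLocus := by
      have e := hcG (Fin.castSucc j)
      have : ∀ (f g : Spec (CommRingCat.of (MvPolynomial (Fin (n + 1)) A ⧸
          Ideal.span {dehom (n + 1) A (Fin.castSucc j) H})) ⟶ Spec (CommRingCat.of A))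
          [LocallyOfFinitePresentation f] [LocallyOfFinitePresentation g], f = g →
          x ∈ g.smoothLocus → x ∈ f.smoothLocus := by
        intro f g _ _ hfg hx; subst hfg; exact hx
      exact this _ _ e h6
    rw [← Scheme.Hom.preimage_smoothLocus_eq] at h10
    exact h10
  · have h1 := Scheme.Hom.preimage_smoothLocus_eq G.smoothLocus.ι G
    rw [← Scheme.Hom.smoothLocus_eq_top_iff, ← h1, Scheme.Opens.ι_preimage_self]
  · -- charts at infinity
    have hcomap : ∀ j, toI (I.comap (chart n A j ≫ hyper n A)) = Ideal.span {fer A n d} := by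
      intro j
      rw [chart_hyper, Scheme.IdealSheafData.comap_comp, toI_comap, hI, Ideal.map_span, Set.image_singleton,
        hH, killLast_dehom]
    choose z hz using fun j : Fin (n + 1) => exists_isPullback I (chart n A j ≫ hyper n A)
      (Ideal.span {fer A n d}) (hcomap j)
    let t : ∀ j : Fin (n + 1), Spec (CommRingCat.of (MvPolynomial (Fin n) A ⧸ Ideal.span {fer A n d})) ⟶
        pullback I.subschemeι (hyper n A) := fun j =>
      pullback.lift (z j) (Spec.map (CommRingCat.ofHom (Ideal.Quotient.mk _)) ≫ chart n A j) (by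
        rw [(hz j).w, Category.assoc])
    have ht : ∀ j, IsPullback (t j) (Spec.map (CommRingCat.ofHom (Ideal.Quotient.mk (Ideal.span {fer A n d}))))
        (pullback.snd I.subschemeι (hyper n A)) (chart n A j) := by
      intro j
      have h1 := hz j
      refine IsPullback.of_right (h₁₂ := pullback.fst I.subschemeι (hyper n A)) (h₂₂ := hyper n A)
        (v₁₃ := I.subschemeι) ?_ (pullback.lift_snd _ _ _) (IsPullback.of_hasPullback _ _)
      rw [pullback.lift_fst]
      exact h1
    have hto : ∀ j, IsOpenImmersion (t j) := fun j =>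
      MorphismProperty.of_isPullback (P := @IsOpenImmersion) (ht j).flip inferInstance
    refine of_jointly @Smooth _ (ι := ULift.{u} (Fin (n + 1))) _
      (fun i => t i.down) (hc := fun i => hto i.down) ?_ ?_
    · intro x
      obtain ⟨i, hi⟩ := exists_mem_chart n A (pullback.snd I.subschemeι (hyper n A) x)
      refine ⟨⟨i⟩, ?_⟩
      change x ∈ Set.range (t i)
      rw [range_of_isPullback (ht i)]
      exact hi
    · rintro ⟨i⟩
      change Smooth (t i ≫ ii ≫ G)
      have h1 : t i ≫ ii ≫ G = Spec.map (CommRingCat.ofHom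
          (algebraMap A (MvPolynomial (Fin n) A ⧸ Ideal.span {fer A n d}))) := by
        rw [hii, hG, pullback.condition_assoc, hyper_toSpec, ← Category.assoc, (ht i).w, Category.assoc,
          chart_toSpec, ← Spec.map_comp]
        rfl
      rw [h1]
      refine (HasRingHomProperty.Spec_iff (P := @Smooth)).mpr ?_
      change (algebraMap A (MvPolynomial (Fin n) A ⧸ Ideal.span {fer A n d})).Smooth
      rw [RingHom.smooth_algebraMap]
      have := hsmC n
      refine Groth.Agent.Lefpen.H705.JacHyp.smooth_quotient_of_derivation (fer A n d) (-eul u n) ?_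
      change -(eul u n (fer A n d)) - 1 ∈ _
      rw [eul_fer hu hd1, Ideal.mem_span_singleton]
      exact ⟨-1, by ring⟩

end Groth.Agent.Vancyc.H543.Closure
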