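import Groth.Agent.Vancyc.H543.FamV
import Groth.Agent.Vancyc.H578.FamPts
import Groth.Agent.Vancyc.H697.DimFib
import Groth.Agent.Vancyc.H588.AsmDefs

/-!
# The compactified family as a `FamData`

The projective closure of `g = t` over `k[t]` packaged as the structure `FamData` of the assembly of S4015.
-/

set_option autoImplicit false

universe u

open CategoryTheory CategoryTheory.Limits AlgebraicGeometry MvPolynomial

namespace Groth.Agent.Vancyc.H543.Fam

open Groth.Agent.Lefpen.H713.HypProj Groth.Agent.Vancyc.H517.HypJac Groth.Agent.Vancyc.H517.Homog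
open Groth.Agent.Vancyc.H517.Bdry Groth.Agent.Vancyc.H517.Family
open Groth.Agent.Vancyc.H578.Count Groth.Agent.Vancyc.H578.MilnorAff

variable {k : Type u} [Field k] {n : ℕ} (N : ℕ) (g : MvPolynomial (Fin (n + 1)) k)

variable {N g} in
theorem exists_crit [IsAlgClosed k] (hNk : (N : k) ≠ 0) (hN : 2 ≤ N) (hg : (g - ∑ i, X i ^ N).totalDegree < N)
    (y : Y N g) (hy : y ∉ nsOpen (Q N g)) : ∃ a ∈ crit g, y = v N g hN hg (pt a) :=
  H578.FamPts.exists_crit_of_notMem_nsOpen hN hNk hg (hp (RingHom.id _) hg) (nonsing _ hNk hg) y hy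

/-- outside the critical points of `g` the compactified family is in the nonsingular locus -/
theorem mem_nsOpen [IsAlgClosed k] (hNk : (N : k) ≠ 0) (hN : 2 ≤ N) (hg : (g - ∑ i, X i ^ N).totalDegree < N)
    (y : Y N g) (hy : ∀ a ∈ crit g, y ≠ v N g hN hg (pt a)) : y ∈ nsOpen (Q N g) := by
  by_contra h
  obtain ⟨a, ha, e⟩ := exists_crit hNk hN hg y h
  exact hy a ha e

/-- the fibres have dimension at most `n` -/
theorem dim_fiber (κ : Type u) [Field κ] (ψ : Polynomial k →+* κ) (hN : 2 ≤ N)
    (hg : (g - ∑ i, X i ^ N).totalDegree < N) :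
    topologicalKrullDim ↥(pullback (G N g) (Spec.map (CommRingCat.ofHom ψ))) ≤ n :=
  H697.DimFib.dim_fiber κ ψ hN hg

instance isProper_G : IsProper (G N g) := inferInstance

variable {N g} in
/-- **the compactified family** -/
noncomputable def famData [IsAlgClosed k] (hNk : (N : k) ≠ 0) (hN : 2 ≤ N)
    (hg : (g - ∑ i, X i ^ N).totalDegree < N) : H588.AsmDefs.FamData g where
  Y := Y N g
  Z := Hyp (kform (Q N g))
  G := G N g
  i := bdry (Q N g)
  v := v N g hN hg
  isProper := inferInstance
  isClosedImmersion := inferInstance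
  isOpenImmersion := inferInstance
  range_v := by rw [range_bdry' N g hN hg, compl_compl]
  v_G := v_G N g hN hg
  smooth_bdry := smooth_bdry N g hNk hg
  W := nsOpen (Q N g)
  smooth_W := smooth_nsOpen' N g
  mem_W := exists_crit hNk hN hg
  dim_fiber := fun κ _ ψ => dim_fiber N g κ ψ hN hg

end Groth.Agent.Vancyc.H543.Fam
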