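import Groth.Agent.Vancyc.H517.Family
import Groth.Agent.Vancyc.H578.Count

/-!
# The projective closure of the family `g = t` over `k[t]`

`g : MvPolynomial (Fin (n + 1)) k` with top form `∑ X_i ^ N`:

* `Q N g`: the homogenization of `g - t`, a form over `k[t]`; `Y N g = V_+(Q) ⟶ Spec k[t]` (`G N g`);
* `v`: the open immersion of the affine space, over `t = g`; `v_G`, `range_bdry'`;
* `smooth_bdry`: the divisor at infinity is smooth over `k[t]`.
-/

set_option autoImplicit false

universe u

open CategoryTheory CategoryTheory.Limits AlgebraicGeometry MvPolynomial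

namespace Groth.Agent.Vancyc.H543.Fam

open Groth.Agent.Lefpen.H713.HypProj Groth.Agent.Vancyc.H517.HypJac Groth.Agent.Vancyc.H517.Homog
open Groth.Agent.Vancyc.H517.Bdry Groth.Agent.Vancyc.H517.Family
open Groth.Agent.Vancyc.H578.Count Groth.Agent.Vancyc.H578.MilnorAff

section Form

variable {A : Type u} [CommRing A] {σ : Type*} [Fintype σ]

/-- The Fermat form of degree `N` is nonsingular if `N` is invertible. -/
theorem nonsing_fermat {N : ℕ} (hN : IsUnit (N : A)) : NonsingForm (∑ i : σ, (X i : MvPolynomial σ A) ^ N) := by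
  classical
  intro i
  refine ⟨N - 1, ?_⟩
  obtain ⟨u, hu⟩ := hN
  have h1 : pderiv i (∑ j : σ, (X j : MvPolynomial σ A) ^ N) = C (N : A) * X i ^ (N - 1) := by
    rw [map_sum, Finset.sum_eq_single i]
    · rw [pderiv_pow, pderiv_X_self, mul_one, map_natCast]
    · intro j _ hj
      rw [pderiv_pow, pderiv_X_of_ne hj, mul_zero]
    · simp
  have h2 : (X i : MvPolynomial σ A) ^ (N - 1) =
      C (↑u⁻¹ : A) * pderiv i (∑ j : σ, (X j : MvPolynomial σ A) ^ N) := by
    rw [h1, ← mul_assoc, ← C_mul, ← hu, Units.inv_mul, C_1, one_mul]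
  rw [h2]
  exact Ideal.mul_mem_left _ _ (pderiv_mem_jacI _ _)

end Form

section Deg

variable {k : Type u} [Field k] {m : ℕ} {N : ℕ} {g : MvPolynomial (Fin m) k} {R : Type u} [CommRing R]
  (φ : Polynomial k →+* R)

theorem isHomogeneous_fermat {A : Type*} [CommRing A] {σ : Type*} [Fintype σ] (N : ℕ) :
    (∑ i : σ, (X i : MvPolynomial σ A) ^ N).IsHomogeneous N := by
  refine IsHomogeneous.sum _ _ _ fun i _ => ?_
  have := (isHomogeneous_X A i).pow N
  rwa [one_mul] at this

theorem totalDegree_le (hg : (g - ∑ i, X i ^ N).totalDegree < N) : g.totalDegree ≤ N := by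
  have h : g = (g - ∑ i, X i ^ N) + ∑ i, X i ^ N := by ring
  rw [h]
  refine (totalDegree_add _ _).trans (max_le hg.le ?_)
  exact (isHomogeneous_fermat N).totalDegree_le

theorem component_eq (hg : (g - ∑ i, X i ^ N).totalDegree < N) : homogeneousComponent N g = ∑ i, X i ^ N := by
  have h : g = (g - ∑ i, X i ^ N) + ∑ i, X i ^ N := by ring
  rw [h, map_add, homogeneousComponent_eq_zero _ _ hg, zero_add, homogeneousComponent_eq_self (isHomogeneous_fermat N)]

theorem hp (hg : (g - ∑ i, X i ^ N).totalDegree < N) : (fp φ g).totalDegree ≤ N := by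
  rw [fp]
  refine (totalDegree_sub _ _).trans (max_le ?_ ?_)
  · refine le_trans ?_ (totalDegree_le hg)
    exact Finset.sup_mono (support_map_subset _ _)
  · rw [totalDegree_C]
    exact Nat.zero_le _

theorem top (hN : N ≠ 0) (hg : (g - ∑ i, X i ^ N).totalDegree < N) :
    homogeneousComponent N (fp φ g) = ∑ i, X i ^ N := by
  rw [fp, map_sub, ← map_homogeneousComponent, component_eq hg, homogeneousComponent_eq_zero (n := N) (C _), sub_zero,
    map_sum]
  · exact Finset.sum_congr rfl fun i _ => by rw [map_pow, map_X]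
  · rw [totalDegree_C]
    exact Nat.pos_of_ne_zero hN

include φ in
theorem isUnit_natCast (hNk : (N : k) ≠ 0) : IsUnit (N : R) := by
  have h := (IsUnit.mk0 _ hNk).map (φ.comp Polynomial.C)
  rwa [map_natCast] at h

theorem ne_zero (hNk : (N : k) ≠ 0) : N ≠ 0 := by
  rintro rfl
  exact hNk Nat.cast_zero

theorem nonsing (hNk : (N : k) ≠ 0) (hg : (g - ∑ i, X i ^ N).totalDegree < N) :
    NonsingForm (homogeneousComponent N (fp φ g)) := by
  rw [top φ (ne_zero hNk) hg]
  exact nonsing_fermat (isUnit_natCast φ hNk)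

end Deg

section Rho

variable {k : Type u} [Field k] {m : ℕ} (g : MvPolynomial (Fin m) k)

/-- The isomorphism `k[t][x]/(g - t) ⟶ k[x]`. -/
noncomputable def rho : MvPolynomial (Fin m) (Polynomial k) ⧸ Ideal.span {fp (RingHom.id (Polynomial k)) g} →+*
    MvPolynomial (Fin m) k :=
  descHom (φ := RingHom.id (Polynomial k)) (g := g)
    (ψ := (Polynomial.aeval g : Polynomial k →ₐ[k] MvPolynomial (Fin m) k).toRingHom)
    (a := (Polynomial.aeval g : Polynomial k →ₐ[k] MvPolynomial (Fin m) k).toRingHom)
    (b := RingHom.id (MvPolynomial (Fin m) k))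
    (fun c => by simp [MvPolynomial.algebraMap_eq]) (by simp) (by rw [RingHom.comp_id, RingHom.id_comp])

theorem rho_algebraMap : (rho g).comp (algebraMap (Polynomial k) _) =
    (Polynomial.aeval g : Polynomial k →ₐ[k] MvPolynomial (Fin m) k).toRingHom :=
  descHom_inl _ _ _

theorem rho_inrHom : (rho g).comp (inrHom (RingHom.id (Polynomial k)) g) = RingHom.id _ :=
  descHom_inr _ _ _

theorem rho_surjective : Function.Surjective (rho g) := fun x =>
  ⟨inrHom (RingHom.id (Polynomial k)) g x, congrArg (fun t => t x) (rho_inrHom g)⟩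

theorem inrHom_rho : (inrHom (RingHom.id (Polynomial k)) g).comp (rho g) = RingHom.id _ := by
  apply hom_ext_fam
  · rw [RingHom.comp_assoc, rho_algebraMap]
    refine Eq.trans ?_ (comp_eq (RingHom.id (Polynomial k))
      (ψ := (Polynomial.aeval g : Polynomial k →ₐ[k] MvPolynomial (Fin m) k).toRingHom) (g := g)
      (fun c => by simp [MvPolynomial.algebraMap_eq]) (by simp)).symm
    rfl
  · rw [RingHom.comp_assoc, rho_inrHom]
    rfl

theorem rho_injective : Function.Injective (rho g) := by
  intro a b h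
  have h1 := congrArg (fun t => t a) (inrHom_rho g)
  have h2 := congrArg (fun t => t b) (inrHom_rho g)
  change inrHom _ g (rho g a) = a at h1
  change inrHom _ g (rho g b) = b at h2
  rw [← h1, ← h2, h]

instance isIso_rho : IsIso (Spec.map (CommRingCat.ofHom (rho g))) := by
  have : IsIso (CommRingCat.ofHom (rho g)) :=
    (ConcreteCategory.isIso_iff_bijective _).mpr ⟨rho_injective g, rho_surjective g⟩
  infer_instance

end Rho

section Fam

variable {k : Type u} [Field k] {n : ℕ} (N : ℕ) (g : MvPolynomial (Fin (n + 1)) k)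

/-- the form over `k[t]` -/
noncomputable abbrev Q : ↥(CohB1.polyGrading (n + 1) (Polynomial k) N) := hform N (fp (RingHom.id (Polynomial k)) g)

/-- the family -/
noncomputable abbrev Y : Scheme.{u} := Hyp (Q N g)

/-- the family -/
noncomputable abbrev G : Y N g ⟶ Spec (CommRingCat.of (Polynomial k)) := toSpec (Q N g)

/-- the affine part -/
noncomputable def v (_ : 2 ≤ N) (hg : (g - ∑ i, X i ^ N).totalDegree < N) :
    Spec (CommRingCat.of (MvPolynomial (Fin (n + 1)) k)) ⟶ Y N g :=
  Spec.map (CommRingCat.ofHom (rho g)) ≫ aff (hp (RingHom.id _) hg)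

variable (hN : 2 ≤ N) (hg : (g - ∑ i, X i ^ N).totalDegree < N)

instance isOpenImmersion_v : IsOpenImmersion (v N g hN hg) := by
  rw [v]; infer_instance

theorem v_G : v N g hN hg ≫ G N g = toLine (k := k) g := by
  rw [v, Category.assoc, aff_toSpec, ← Spec.map_comp, ← CommRingCat.ofHom_comp, rho_algebraMap]

theorem range_v : Set.range (v N g hN hg) = Set.range (aff (hp (RingHom.id (Polynomial k)) hg)) := by
  have h := @Scheme.Hom.opensRange_comp_of_isIso _ _ _ (Spec.map (CommRingCat.ofHom (rho g)))
    (aff (hp (RingHom.id (Polynomial k)) hg)) _ _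
  exact congrArg (fun U : (Y N g).Opens => (U : Set (Y N g))) h

theorem range_bdry' : Set.range (bdry (Q N g)) = (Set.range (v N g hN hg))ᶜ := by
  rw [range_v]
  exact range_bdry_hform _

theorem bdry_G : bdry (Q N g) ≫ G N g = toSpec (kform (Q N g)) := bdry_toSpec _

theorem nonsing_kform (hNk : (N : k) ≠ 0) (hg : (g - ∑ i, X i ^ N).totalDegree < N) :
    NonsingForm (kform (Q N g)).1 := by
  rw [kform_hform]
  exact nonsing _ hNk hg

/-- the divisor at infinity is smooth -/
theorem smooth_bdry (hNk : (N : k) ≠ 0) (hg : (g - ∑ i, X i ^ N).totalDegree < N) :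
    Smooth (bdry (Q N g) ≫ G N g) := by
  rw [bdry_G]
  have h := nonsing_kform N g hNk hg
  cases n with
  | zero =>
    have : IsEmpty (Hyp (kform (Q N g))) := by
      refine ⟨fun x => ?_⟩
      obtain ⟨i, y, -⟩ := exists_mem_chartH (kform (Q N g)) x
      refine y.2.ne_top ((Ideal.eq_top_iff_one _).mpr ?_)
      have h1 : (kform (Q N g)).1 = X i ^ N := by
        rw [kform_hform, top _ (ne_zero hNk) hg, Finset.sum_eq_single i]
        · intro j _ hj
          exact (hj (Fin.ext (by omega))).elim
        · intro h3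
          exact (h3 (Finset.mem_univ _)).elim
      have h2 : Ideal.Quotient.mk (Ideal.span {Groth.Agent.Sga5.ProjChart.dehom 0 (Polynomial k) i (kform (Q N g)).1})
          (Groth.Agent.Sga5.ProjChart.dehom 0 (Polynomial k) i (kform (Q N g)).1) = 0 :=
        Ideal.Quotient.eq_zero_iff_mem.mpr (Ideal.mem_span_singleton_self _)
      conv at h2 =>
        lhs
        arg 2
        rw [h1]
      rw [map_pow, Groth.Agent.Sga5.ProjChart.dehom_X_self, one_pow, map_one] at h2
      rw [h2]
      exact zero_mem _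
    infer_instance
  | succ n =>
    have := h.smooth
    exact SmoothOfRelativeDimension.smooth n _

theorem smooth_nsOpen' : Smooth ((nsOpen (Q N g)).ι ≫ G N g) := by
  have := smooth_nsOpen (Q N g)
  exact SmoothOfRelativeDimension.smooth n _

end Fam

end Groth.Agent.Vancyc.H543.Fam
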