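import Groth.Agent.Fga.QD1Sch
import Groth.Agent.Sga5.ProjHyper
import Groth.Agent.Ega3B.ProjProper

/-!
# Hypersurfaces in projective space over a ring

* `exists_isPullback` : the restriction of a closed subscheme to an affine chart is a spectrum of a quotient.
* `exists_hyp` : the ideal sheaf on `P^N_A` of a homogeneous polynomial, with its chart ideals.
-/

set_option autoImplicit false
universe u

open CategoryTheory CategoryTheory.Limits AlgebraicGeometry MvPolynomial CohB1

namespace Groth.Agent.Vancyc.H543.Hyp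

open Groth.Agent.Fga.QD1Sch Groth.Agent.Fga.QD1Alg Groth.Agent.Picfga.IdealDescent
open Groth.Agent.Sga5.ProjChart Groth.Agent.Sga5.ProjSmooth Groth.Agent.CohqB.ProjBC

theorem exists_isPullback {X : Scheme.{u}} (I : X.IdealSheafData) {R : Type u} [CommRing R]
    (g : Spec (CommRingCat.of R) ⟶ X) (J : Ideal R) (hJ : toI (I.comap g) = J) :
    ∃ c : Spec (CommRingCat.of (R ⧸ J)) ⟶ I.subscheme,
      IsPullback c (Spec.map (CommRingCat.ofHom (Ideal.Quotient.mk J))) I.subschemeι g := by
  subst hJ
  obtain ⟨e, he⟩ := exists_iso_subscheme (I.comap g)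
  have h := isPullback_comap g I
  refine ⟨e.inv ≫ Scheme.IdealSheafData.subschemeMap (I.comap g) I g (I.le_map_comap g), ?_⟩
  refine IsPullback.of_iso h e (Iso.refl _) (Iso.refl _) (Iso.refl _) ?_ ?_ ?_ ?_
  · simp
  · rw [Iso.refl_hom, Category.comp_id, he]
  · simp
  · simp

variable {N : ℕ} {A : Type u} [CommRing A]

lemma symm_chartHom (i : Fin (N + 1)) (x : P N A) :
    (chartEquiv N A i).symm (chartHom N i x) = dehom N A i x := by
  have h : ((chartEquiv N A i).symm.toRingHom).comp (chartHom N i) = dehom N A i := by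
    apply MvPolynomial.ringHom_ext
    · intro r
      change (chartEquiv N A i).symm (chartHom N i (C r)) = dehom N A i (C r)
      rw [dehom_C, RingEquiv.symm_apply_eq, chartEquiv_C, chartHom_C]
      rfl
    · intro j
      change (chartEquiv N A i).symm (chartHom N i (X j)) = dehom N A i (X j)
      rw [RingEquiv.symm_apply_eq]
      obtain rfl | ⟨k, rfl⟩ := Fin.eq_self_or_eq_succAbove i j
      · rw [dehom_X_self, map_one, chartHom_X_self]
      · rw [dehom_X, chartEquiv_X, chartHom_X]
        rfl
  exact DFunLike.congr_fun h x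

lemma toI_comap_chart (I : (ProjSpace N A).IdealSheafData) (i : Fin (N + 1)) :
    toI (I.comap (chart N A i)) = (chI I i).map (chartEquiv N A i).symm.toRingHom := by
  have h : chart N A i = Spec.map (CommRingCat.ofHom (chartEquiv N A i).symm.toRingHom) ≫
    chartι N i := rfl
  rw [h, Scheme.IdealSheafData.comap_comp, toI_comap]
  rfl

theorem isHom_span {d : ℕ} (H : P N A) (hH : H.IsHomogeneous d) : IsHom (Ideal.span {H}) := by
  rw [← isHomogeneous_iff]
  refine Ideal.homogeneous_span _ _ ?_
  rintro x rfl
  exact ⟨d, mem_polyGrading.2 hH⟩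

/-- The ideal sheaf of a hypersurface. -/
theorem exists_hyp {d : ℕ} (H : P N A) (hH : H.IsHomogeneous d) :
    ∃ I : (ProjSpace N A).IdealSheafData,
      ∀ i, toI (I.comap (chart N A i)) = Ideal.span {dehom N A i H} := by
  obtain ⟨I, hI⟩ := exists_chI_eq (compat_ch (isHom_span H hH))
  refine ⟨I, fun i => ?_⟩
  rw [toI_comap_chart, hI, ch, Ideal.map_map, Ideal.map_span, Set.image_singleton]
  congr 2
  exact symm_chartHom i H

end Groth.Agent.Vancyc.H543.Hyp
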